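import Cfsg.Agent.Lib.Th19.KEval

/-! Kernel check: the first eight letters commute with `a`. -/

set_option autoImplicit false
set_option maxRecDepth 100000
set_option maxHeartbeats 0

namespace Cfsg.Agent.Lib.Th19

theorem commA1 : relOK (pk [1, 0, 1, 0]) = true := by decide +kernel

theorem commA2 : relOK (pk [2, 0, 2, 0]) = true := by decide +kernel

theorem commA3 : relOK (pk [3, 0, 3, 0]) = true := by decide +kernel

theorem commA4 : relOK (pk [5, 0, 4, 0]) = true := by decide +kernel

theorem commA6 : relOK (pk [7, 0, 6, 0]) = true := by decide +kernel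

end Cfsg.Agent.Lib.Th19
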