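import Mathlib

/-!
The relators of groups 4, 5 and 6 of the presentation of Th that do not involve `b`.
-/

set_option autoImplicit false

namespace Cfsg.Agent.Lib.Th19

/-- relators of groups 4, 5, 6 without `b`, written as in the presentation -/
structure HRels {G : Type} [Group G] (a c d e s t u : G) : Prop where
  u_sq : (u ^ 2) * ((a * c)⁻¹) = 1
  u_a : u⁻¹ * a⁻¹ * u * a = 1
  u_c : u⁻¹ * c⁻¹ * u * c = 1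
  u_e : u⁻¹ * e⁻¹ * u * e = 1
  u_de : (d * e * (u⁻¹ * d * u)) ^ 2 = 1
  u_t : (u⁻¹ * t * u) * ((t⁻¹)⁻¹) = 1
  six_e : e⁻¹ * ((s ^ 2)⁻¹ * u * (s ^ 2))⁻¹ * e * ((s ^ 2)⁻¹ * u * (s ^ 2)) = 1
  six_us : (a * c) * (((u * s) ^ 3)⁻¹) = 1
  six_comm : (a * c) * (((u⁻¹ * s⁻¹ * u * s) ^ 4)⁻¹) = 1
  six_d : ((d * ((s ^ 2)⁻¹ * u * (s ^ 2))) ^ 4) * ((a * c * (d⁻¹ * c * d) *
    ((d * e * (s⁻¹))⁻¹ * c * (d * e * (s⁻¹))) * ((d * e * (s ^ 2))⁻¹ * c * (d * e * (s ^ 2))))⁻¹) = 1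

end Cfsg.Agent.Lib.Th19
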