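import Cfsg.Agent.Lib.Th19.KEval

/-! Kernel checks of the nine generators and the relators of the first eight letters. -/

set_option autoImplicit false
set_option maxRecDepth 100000
set_option maxHeartbeats 0

namespace Cfsg.Agent.Lib.Th19

theorem keys_ok : keysOK = true := by decide +kernel

theorem keys_nodup : noDupB qKeys = true := by decide +kernel

theorem squares_ok : squaresOK = true := by decide +kernel

theorem wits_ok : witsOK = true := by decide +kernel

end Cfsg.Agent.Lib.Th19
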