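import Cfsg.Agent.Lib.Th19.Data

/-! Kernel checks of the log, the table and the ways. -/

set_option autoImplicit false
set_option maxRecDepth 100000
set_option maxHeartbeats 0

namespace Cfsg.Agent.Lib.Th19

open Cfsg.Agent.Lib.ThK83 (hold band forallB rangeB nth eqLN memN)

/-- entry of the table -/
noncomputable def tabAt (i g : Nat) : Nat := nth 0 (nth [] tab i) g

/-- follow a word in the table -/
noncomputable def walk (i : Nat) (w : List Nat) : Nat :=
  List.rec (motive := fun _ => Nat → Nat) (fun i => i)
    (fun g _ ih i => hold (tabAt i g) fun j => ih j) w i

/-- the final facts give the table -/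
noncomputable def tableOK : Bool :=
  rangeB (fun i => rangeB (fun g =>
    hold (Nat.add finalStart (Nat.add (Nat.mul i 10) g)) fun k =>
      band (Nat.blt k 2681) (band (Nat.beq (fX (theLog.fact k)) i)
        (band (Nat.beq (fY (theLog.fact k)) (tabAt i g))
          (band (Nat.blt (tabAt i g) 120) (eqLN (fW (theLog.fact k)) [g]))))) 10 0) 120 0

/-- different nodes go to different places -/
noncomputable def sepOK : Bool :=
  rangeB (fun j =>
    band (forallB (fun g => Nat.blt g 10) (winv (nth [] words j) []))
      (rangeB (fun i => Bool.rec (motive := fun _ => Bool)
        (Bool.rec (motive := fun _ => Bool) true false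
          (Nat.beq (walk i (winv (nth [] words j) [])) 0)) true (Nat.beq i j)) 120 0)) 120 0

/-- the word of a way for the node `k` -/
noncomputable def expand (k : Nat) (toks : List Nat) : List Nat :=
  List.rec (motive := fun _ => List Nat) []
    (fun t _ ih => Bool.rec (motive := fun _ => List Nat) (nth [] words k ++ ih) (t :: ih)
      (Nat.blt t 8)) toks

/-- from every node but `0` there is a way to the node of `u` -/
noncomputable def waysOK : Bool :=
  rangeB (fun k =>
    band (forallB (fun g => Nat.blt g 10) (expand k (nth [] ways k)))
      (Nat.beq (walk 0 (expand k (nth [] ways k))) (tabAt 0 8))) 119 1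

theorem log_ok0 : theLog.rangeOK 0 500 = true := by decide +kernel

theorem log_ok1 : theLog.rangeOK 500 500 = true := by decide +kernel

theorem log_ok2 : theLog.rangeOK 1000 500 = true := by decide +kernel

theorem log_ok3 : theLog.rangeOK 1500 500 = true := by decide +kernel

theorem log_ok4 : theLog.rangeOK 2000 500 = true := by decide +kernel

theorem log_ok5 : theLog.rangeOK 2500 181 = true := by decide +kernel

theorem table_ok : tableOK = true := by decide +kernel

theorem sep_ok : sepOK = true := by decide +kernel

theorem ways_ok : waysOK = true := by decide +kernel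

end Cfsg.Agent.Lib.Th19
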