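import Cfsg.Agent.Lib.ThK83.Kernel

/-!
Kernel-friendly checker for a log of coset identities on ten letters.

Letters: `0 .. 9` = `a c d e s s⁻¹ t t⁻¹ u u⁻¹`.  The nodes are given by words; a fact `(x, y, w)`
says that `word x * w * (word y)⁻¹` lies in the subgroup.  A fact is stored as
`x :: y :: code :: parts`, the code being `0` for the empty word and `g + 1` for the letter `g`.
A part is `4 * i` (fact `i`), `4 * i + 1` (fact `i` reversed), `4 * (32 * x + r) + 2` (relator `r`
at the node `x`) or `4 * (32 * x + r) + 3` (its inverse there).  No part: a tree edge, or a letter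
of the subgroup at the node `0`.
-/

namespace Cfsg.Agent.Lib.Th19

open Cfsg.Agent.Lib.ThK83 (hold band forallB rangeB nth eqLN memN)

/-- the inverse letter -/
noncomputable def iv (g : Nat) : Nat := nth 0 [0, 1, 2, 3, 5, 4, 7, 6, 9, 8] g

/-- the inverse word, appended to `acc` -/
noncomputable def winv (w : List Nat) : List Nat → List Nat :=
  List.rec (motive := fun _ => List Nat → List Nat) (fun acc => acc)
    (fun g _ ih acc => ih (iv g :: acc)) w

/-- push a letter on a reduced stack -/
noncomputable def push (g : Nat) (st : List Nat) : List Nat :=
  List.rec (motive := fun _ => List Nat) [g]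
    (fun h t _ => Bool.rec (motive := fun _ => List Nat) (g :: h :: t) t (Nat.beq h (iv g))) st

/-- push a word on a reduced stack -/
noncomputable def pushW (w : List Nat) : List Nat → List Nat :=
  List.rec (motive := fun _ => List Nat → List Nat) (fun st => st)
    (fun g _ ih st => ih (push g st)) w

/-- the word of a code -/
noncomputable def wOf (c : Nat) : List Nat :=
  Nat.rec (motive := fun _ => List Nat) [] (fun g _ => [g]) c

/-- data of a log -/
structure Log where
  words : List (List Nat)
  rels : List (List Nat)
  blocks : List (List (List Nat))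

/-- fact number `k` -/
noncomputable def Log.fact (D : Log) (k : Nat) : List Nat :=
  nth [] (nth [] D.blocks (Nat.div k 50)) (Nat.mod k 50)

/-- start of a fact -/
noncomputable def fX (f : List Nat) : Nat := nth 0 f 0

/-- end of a fact -/
noncomputable def fY (f : List Nat) : Nat := nth 0 f 1

/-- word of a fact -/
noncomputable def fW (f : List Nat) : List Nat := wOf (nth 0 f 2)

/-- parts of a fact -/
noncomputable def fP (f : List Nat) : List Nat :=
  List.rec (motive := fun _ => List Nat) [] (fun _ t _ =>
    List.rec (motive := fun _ => List Nat) [] (fun _ t _ =>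
      List.rec (motive := fun _ => List Nat) [] (fun _ t _ => t) t) t) f

/-- the start, the end and the word of a part -/
noncomputable def Log.part (D : Log) (p : Nat) : Nat × Nat × List Nat :=
  hold (Nat.div p 4) fun i => hold (Nat.mod p 4) fun m =>
    Nat.rec (motive := fun _ => Nat × Nat × List Nat) (fX (D.fact i), fY (D.fact i), fW (D.fact i))
      (fun m _ => Nat.rec (motive := fun _ => Nat × Nat × List Nat)
        (fY (D.fact i), fX (D.fact i), winv (fW (D.fact i)) [])
        (fun m _ => Nat.rec (motive := fun _ => Nat × Nat × List Nat)
          (Nat.div i 32, Nat.div i 32, nth [] D.rels (Nat.mod i 32))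
          (fun _ _ => (Nat.div i 32, Nat.div i 32, winv (nth [] D.rels (Nat.mod i 32)) [])) m) m) m

/-- the part refers to an earlier fact or to a relator -/
noncomputable def partOK (k p : Nat) : Bool :=
  Bool.rec (motive := fun _ => Bool) true (Nat.blt (Nat.div p 4) k) (Nat.blt (Nat.mod p 4) 2)

/-- follow the parts from the node `x` -/
noncomputable def Log.run (D : Log) (k : Nat) (ps : List Nat) :
    Nat → List Nat → Option (Nat × List Nat) :=
  List.rec (motive := fun _ => Nat → List Nat → Option (Nat × List Nat))
    (fun x st => some (x, st))
    (fun p _ ih x st => Bool.rec (motive := fun _ => Option (Nat × List Nat)) none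
      (ih (D.part p).2.1 (pushW (D.part p).2.2 st))
      (band (partOK k p) (Nat.beq (D.part p).1 x))) ps

/-- the fact `f` at place `k` is right -/
noncomputable def Log.factOK (D : Log) (k : Nat) (f : List Nat) : Bool :=
  List.rec (motive := fun _ => Bool)
    (Bool.rec (motive := fun _ => Bool)
      (eqLN (nth [] D.words (fY f)) (nth [] D.words (fX f) ++ fW f))
      true
      (band (Nat.beq (fX f) 0) (band (Nat.beq (fY f) 0) (forallB (fun g => Nat.blt g 8) (fW f)))))
    (fun _ _ _ => Option.rec (motive := fun _ => Bool) false
      (fun r => band (Nat.beq r.1 (fY f)) (eqLN r.2 (fW f)))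
      (D.run k (fP f) (fX f) []))
    (fP f)

/-- all facts number `i, ..., i + m - 1` are right -/
noncomputable def Log.rangeOK (D : Log) (i m : Nat) : Bool :=
  rangeB (fun k => D.factOK k (D.fact k)) m i

end Cfsg.Agent.Lib.Th19
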