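import Mathlib
import Cfsg.Agent.Lib.Th19.NineData
import Cfsg.Agent.Lib.ThK83.Sound
import Cfsg.Agent.Lib.Th19.Kernel

/-!
The ten permutations on nine points: they generate the alternating group, and the first eight fix
an orbit of quadruples.
-/

set_option autoImplicit false
set_option maxRecDepth 100000

namespace Cfsg.Agent.Lib.Th19

open Equiv

theorem nineVal_of_le {g : ℕ} (hg : 10 ≤ g) : nineVal g = al0 := by
  simp [nineVal, hg]

theorem iv_of_le {g : ℕ} (hg : 10 ≤ g) : iv g = 0 := by
  rw [iv, ThK83.nth_eq, List.getD_eq_default _ _ (by simpa using hg)]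

theorem nineVal_iv : ∀ g, nineVal (iv g) = (nineVal g)⁻¹ := by
  intro g
  rcases Nat.lt_or_ge g 10 with hg | hg
  · revert g; decide +kernel
  · rw [nineVal_of_le hg, iv_of_le hg]; decide +kernel

theorem sign_nineVal : ∀ g, Perm.sign (nineVal g) = 1 := by
  intro g
  rcases Nat.lt_or_ge g 10 with hg | hg
  · revert g; decide +kernel
  · rw [nineVal_of_le hg]; decide +kernel

/-- a point of a coded triple -/
def dig (c k : ℕ) : Fin 9 := Fin.ofNat 9 (c / 9 ^ k)

/-- the code of a triple -/
def code (a b c : Fin 9) : ℕ := 81 * a.val + 9 * b.val + c.val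

theorem dig_code : ∀ a b c : Fin 9,
    dig (code a b c) 2 = a ∧ dig (code a b c) 1 = b ∧ dig (code a b c) 0 = c := by decide +kernel

theorem triples_step : ∀ k < 504, k ≠ 0 →
    (triples.getD k (0, 0, 0)).2.1 < k ∧
    (let t := triples.getD k (0, 0, 0)
     let q := (triples.getD t.2.1 (0, 0, 0)).1
     t.1 = code (nineVal t.2.2 (dig q 2)) (nineVal t.2.2 (dig q 1)) (nineVal t.2.2 (dig q 0))) := by
  decide +kernel

theorem triples_cover : ∀ a b c : Fin 9, a ≠ b → a ≠ c → b ≠ c →
    code a b c ∈ triples.map (·.1) := by decide +kernel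

theorem threeWord_val : (threeWord.map nineVal).prod =
    swap (dig (triples.getD 0 (0, 0, 0)).1 2) (dig (triples.getD 0 (0, 0, 0)).1 1) *
      swap (dig (triples.getD 0 (0, 0, 0)).1 2) (dig (triples.getD 0 (0, 0, 0)).1 0) := by
  decide +kernel

theorem swap_pair_conj (g : Perm (Fin 9)) (a b c : Fin 9) :
    swap (g a) (g b) * swap (g a) (g c) = g * (swap a b * swap a c) * g⁻¹ := by
  rw [Equiv.swap_apply_apply, Equiv.swap_apply_apply]
  group

theorem nineVal_generate (K : Subgroup (Perm (Fin 9))) (h : ∀ g, nineVal g ∈ K) :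
    alternatingGroup (Fin 9) ≤ K := by
  have key : ∀ k < 504, swap (dig (triples.getD k (0, 0, 0)).1 2) (dig (triples.getD k (0, 0, 0)).1 1) *
      swap (dig (triples.getD k (0, 0, 0)).1 2) (dig (triples.getD k (0, 0, 0)).1 0) ∈ K := by
    intro k
    induction k using Nat.strong_induction_on with
    | _ k ih =>
      intro hk
      rcases eq_or_ne k 0 with rfl | hk0
      · rw [← threeWord_val]
        exact list_prod_mem (by simp [h])
      · obtain ⟨hp, he⟩ := triples_step k hk hk0
        simp only at he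
        rw [he, (dig_code _ _ _).1, (dig_code _ _ _).2.1, (dig_code _ _ _).2.2, swap_pair_conj]
        exact mul_mem (mul_mem (h _) (ih _ hp (hp.trans hk))) (inv_mem (h _))
  have key' : ∀ a b c : Fin 9, a ≠ b → a ≠ c → b ≠ c → swap a b * swap a c ∈ K := by
    intro a b c hab hac hbc
    obtain ⟨t, ht, he⟩ := List.mem_map.1 (triples_cover a b c hab hac hbc)
    obtain ⟨k, hk, rfl⟩ := List.getElem_of_mem ht
    have hk' : k < 504 := by
      have : triples.length = 504 := by decide +kernel
      omega
    have := key k hk'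
    rw [List.getD_eq_getElem _ _ hk, he, (dig_code a b c).1, (dig_code a b c).2.1,
      (dig_code a b c).2.2] at this
    exact this
  rw [← Perm.closure_three_cycles_eq_alternating, Subgroup.closure_le]
  intro σ hσ
  obtain ⟨a, ha⟩ : ∃ a, a ∈ σ.support := Finset.card_pos.1 (by rw [hσ.card_support]; norm_num)
  have hn := hσ.nodup_iff_mem_support.2 ha
  simp only [List.nodup_cons, List.mem_cons, List.not_mem_nil, or_false, not_or, List.nodup_nil,
    and_true] at hn
  rw [(hσ.eq_swap_mul_swap_iff_mem_support).2 ha, swap_comm a]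
  exact key' _ _ _ (Ne.symm hn.1.1) hn.2.1 hn.1.2

/-- membership of a quadruple in the orbit -/
def inQuads (a b c d : Fin 9) : Bool :=
  quadBits.testBit (729 * a.val + 81 * b.val + 9 * c.val + d.val)

/-- a permutation moves the quadruples of the orbit to such quadruples -/
def Keeps (σ : Perm (Fin 9)) : Prop :=
  ∀ a b c d, inQuads a b c d = true → inQuads (σ a) (σ b) (σ c) (σ d) = true

/-- the check of `Keeps` -/
def keepsCheck (σ : Perm (Fin 9)) : Bool :=
  (List.finRange 9).all fun a => (List.finRange 9).all fun b => (List.finRange 9).all fun c =>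
    (List.finRange 9).all fun d => !inQuads a b c d || inQuads (σ a) (σ b) (σ c) (σ d)

theorem keeps_iff {σ : Perm (Fin 9)} : keepsCheck σ = true ↔ Keeps σ := by
  simp only [keepsCheck, List.all_eq_true, List.mem_finRange, forall_const, Bool.or_eq_true,
    Bool.not_eq_true', Keeps]
  exact forall₄_congr fun a b c d => by cases inQuads a b c d <;> simp

theorem keepsCheck_val : (List.range 8).all (fun g => keepsCheck (nineVal g)) = true := by
  decide +kernel

theorem keeps_val : ∀ g < 8, Keeps (nineVal g) := fun g hg =>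
  keeps_iff.1 (List.all_eq_true.1 keepsCheck_val g (List.mem_range.2 hg))

theorem not_keeps_u : ¬ Keeps (nineVal 8) := by
  rw [← keeps_iff]; decide +kernel

theorem keeps_one : Keeps 1 := fun _ _ _ _ h => h

theorem keeps_mul {σ τ : Perm (Fin 9)} (hσ : Keeps σ) (hτ : Keeps τ) : Keeps (σ * τ) :=
  fun a b c d h => hσ _ _ _ _ (hτ a b c d h)

/-- the group of the images of the first eight letters -/
def M9 : Subgroup (Perm (Fin 9)) := Subgroup.closure {σ | ∃ g < 8, nineVal g = σ}

theorem nineVal_mem_M9 {g : ℕ} (hg : g < 8) : nineVal g ∈ M9 :=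
  Subgroup.subset_closure ⟨g, hg, rfl⟩

theorem keeps_of_mem {σ : Perm (Fin 9)} (h : σ ∈ M9) : Keeps σ := by
  refine Subgroup.closure_induction'' ?_ ?_ keeps_one (fun _ _ _ _ => keeps_mul) h
  · rintro _ ⟨g, hg, rfl⟩; exact keeps_val g hg
  · rintro _ ⟨g, hg, rfl⟩
    rw [← nineVal_iv]
    exact keeps_val _ ((by decide +kernel : ∀ g < 8, iv g < 8) g hg)

theorem u_notMem_M9 : nineVal 8 ∉ M9 := fun h => not_keeps_u (keeps_of_mem h)

end Cfsg.Agent.Lib.Th19
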