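import Cfsg.Agent.Lib.Th19.KEval

/-! Kernel checks: relators of the first eight letters on all points. -/

set_option autoImplicit false
set_option maxRecDepth 100000
set_option maxHeartbeats 0

namespace Cfsg.Agent.Lib.Th19

theorem relK0 : relOK (pk (ThK83.nth [] rels 0)) = true := by decide +kernel

theorem relK9 : relOK (pk (ThK83.nth [] rels 9)) = true := by decide +kernel

theorem relK12 : relOK (pk (ThK83.nth [] rels 12)) = true := by decide +kernel

theorem relK15 : relOK (pk (ThK83.nth [] rels 15)) = true := by decide +kernel

end Cfsg.Agent.Lib.Th19
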