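import Cfsg.Agent.Lib.Th19.KEval

/-! Kernel checks: relators of the first eight letters on all points. -/

set_option autoImplicit false
set_option maxRecDepth 100000
set_option maxHeartbeats 0

namespace Cfsg.Agent.Lib.Th19

theorem relK2 : relOK (pk (ThK83.nth [] rels 2)) = true := by decide +kernel

theorem relK7 : relOK (pk (ThK83.nth [] rels 7)) = true := by decide +kernel

theorem relK11 : relOK (pk (ThK83.nth [] rels 11)) = true := by decide +kernel

theorem relK17 : relOK (pk (ThK83.nth [] rels 17)) = true := by decide +kernel

theorem relK18 : relOK (pk (ThK83.nth [] rels 18)) = true := by decide +kernel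

end Cfsg.Agent.Lib.Th19
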