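import Mathlib
import Cfsg.Agent.Lib.ThK83.Sound
import Cfsg.Agent.Lib.Th19.Kernel

/-!
Soundness of the checker for logs of coset identities.
-/

set_option autoImplicit false

noncomputable section

namespace Cfsg.Agent.Lib.Th19

open Cfsg.Agent.Lib.ThK83 (hold band forallB rangeB nth eqLN hold_eq band_eq forallB_iff rangeB_spec
  beqN_iff bltN_iff eqLN_iff)

/-- values of the letters with the inverse letters going to the inverses -/
structure Model (D : Log) (P : Type) [Group P] where
  val : ℕ → P
  val_iv : ∀ g, val (iv g) = (val g)⁻¹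
  L : Subgroup P
  root : ((nth [] D.words 0).map val).prod = 1
  val_mem : ∀ g, g < 8 → val g ∈ L
  rel : ∀ r, ((nth [] D.rels r).map val).prod = 1

namespace Model

variable {D : Log} {P : Type} [Group P] (M : Model D P)

/-- product of a word -/
def wv (w : List ℕ) : P := (w.map M.val).prod

@[simp] theorem wv_nil : M.wv [] = 1 := rfl

@[simp] theorem wv_cons (g : ℕ) (w : List ℕ) : M.wv (g :: w) = M.val g * M.wv w := by simp [wv]

theorem wv_append (v w : List ℕ) : M.wv (v ++ w) = M.wv v * M.wv w := by simp [wv]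

theorem wv_winv : ∀ w acc : List ℕ, M.wv (winv w acc) = (M.wv w)⁻¹ * M.wv acc
  | [], acc => by simp [winv]
  | g :: w, acc => by
    show M.wv (winv w (iv g :: acc)) = _
    rw [wv_winv w]; simp [M.val_iv, mul_assoc]

/-- product of a reversed word -/
def rv (st : List ℕ) : P := M.wv st.reverse

theorem rv_cons (g : ℕ) (st : List ℕ) : M.rv (g :: st) = M.rv st * M.val g := by
  simp [rv, wv]

theorem rv_push (g : ℕ) : ∀ st : List ℕ, M.rv (push g st) = M.rv st * M.val g
  | [] => M.rv_cons g []
  | h :: t => by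
    show M.rv (Bool.rec (motive := fun _ => List ℕ) (g :: h :: t) t (Nat.beq h (iv g))) = _
    rcases e : Nat.beq h (iv g) with _ | _
    · exact M.rv_cons g (h :: t)
    · rw [beqN_iff] at e
      show M.rv t = _
      rw [M.rv_cons, e, M.val_iv]; simp

theorem rv_pushW : ∀ w st : List ℕ, M.rv (pushW w st) = M.rv st * M.wv w
  | [], st => by simp [pushW]
  | g :: w, st => by
    show M.rv (pushW w (push g st)) = _
    rw [rv_pushW w, M.rv_push, M.wv_cons, mul_assoc]

/-- the representative of a node -/
def t (x : ℕ) : P := M.wv (nth [] D.words x)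

theorem t_zero : M.t 0 = 1 := M.root

/-- `word x * w * (word y)⁻¹` lies in the subgroup -/
def Rel (x : ℕ) (w : List ℕ) (y : ℕ) : Prop := M.t x * M.wv w * (M.t y)⁻¹ ∈ M.L

theorem Rel.refl (x : ℕ) : M.Rel x [] x := by simp [Rel]

theorem rel_trans {x y z : ℕ} {v w : List ℕ} (h : M.Rel x v y) (h' : M.Rel y w z) :
    M.Rel x (v ++ w) z := by
  have := mul_mem h h'
  simpa [Rel, wv_append, mul_assoc] using this

theorem rel_winv {x y : ℕ} {w : List ℕ} (h : M.Rel x w y) : M.Rel y (winv w []) x := by
  have := inv_mem h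
  simpa [Rel, wv_winv, mul_assoc] using this

theorem rel_node (x r : ℕ) : M.Rel x (nth [] D.rels r) x := by
  simp [Rel, wv, M.rel r]

/-- the fact is true -/
def Holds (f : List ℕ) : Prop := M.Rel (fX f) (fW f) (fY f)

theorem part_rel {k p : ℕ} (ih : ∀ i < k, M.Holds (D.fact i)) (hp : partOK k p = true) :
    M.Rel (D.part p).1 (D.part p).2.2 (D.part p).2.1 := by
  unfold Log.part
  simp only [hold_eq]
  have hk : p % 4 < 2 → p / 4 < k := by
    intro h
    have e : Nat.blt (Nat.mod p 4) 2 = true := bltN_iff.2 h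
    unfold partOK at hp
    rw [e] at hp
    exact bltN_iff.1 hp
  have hm : Nat.mod p 4 = p % 4 := rfl
  rw [hm]
  rcases h : p % 4 with _ | _ | _ | m
  · exact ih _ (hk (by omega))
  · exact M.rel_winv (ih _ (hk (by omega)))
  · exact M.rel_node _ _
  · exact M.rel_winv (M.rel_node _ _)

theorem run_rel {k : ℕ} (ih : ∀ i < k, M.Holds (D.fact i)) :
    ∀ (ps : List ℕ) (x : ℕ) (st : List ℕ) (r : ℕ × List ℕ), D.run k ps x st = some r →
      ∃ w, M.Rel x w r.1 ∧ M.rv r.2 = M.rv st * M.wv w
  | [], x, st, r, h => by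
    simp only [Log.run, Option.some.injEq] at h
    subst h
    exact ⟨[], Rel.refl M x, by simp⟩
  | p :: ps, x, st, r, h => by
    change Bool.rec (motive := fun _ => Option (Nat × List Nat)) none
      (D.run k ps (D.part p).2.1 (pushW (D.part p).2.2 st))
      (band (partOK k p) (Nat.beq (D.part p).1 x)) = some r at h
    rcases e : band (partOK k p) (Nat.beq (D.part p).1 x) with _ | _ <;> rw [e] at h
    · simp at h
    · rw [band_eq, Bool.and_eq_true, beqN_iff] at e
      obtain ⟨w, hw, hv⟩ := run_rel ih ps _ _ r h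
      refine ⟨(D.part p).2.2 ++ w, M.rel_trans (e.2 ▸ M.part_rel ih e.1) hw, ?_⟩
      rw [hv, M.rv_pushW, M.wv_append, mul_assoc]

theorem fW_length : ∀ f : List ℕ, (fW f).reverse = fW f := by
  intro f
  unfold fW wOf
  rcases nth 0 f 2 with _ | g <;> rfl

theorem factOK_holds {k : ℕ} {f : List ℕ} (ih : ∀ i < k, M.Holds (D.fact i))
    (h : D.factOK k f = true) : M.Holds f := by
  unfold Log.factOK at h
  rcases e : fP f with _ | ⟨p, ps⟩
  · rw [e] at h
    change Bool.rec (motive := fun _ => Bool) _ true _ = true at h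
    rcases e2 : band (Nat.beq (fX f) 0)
        (band (Nat.beq (fY f) 0) (forallB (fun g => Nat.blt g 8) (fW f))) with _ | _ <;>
      rw [e2] at h
    · have hw := eqLN_iff.1 h
      show M.t (fX f) * M.wv (fW f) * (M.t (fY f))⁻¹ ∈ M.L
      unfold t
      rw [hw, M.wv_append, mul_inv_cancel]
      exact one_mem _
    · simp only [band_eq, Bool.and_eq_true, beqN_iff, forallB_iff, bltN_iff] at e2
      show M.t (fX f) * M.wv (fW f) * (M.t (fY f))⁻¹ ∈ M.L
      rw [e2.1, e2.2.1, M.t_zero, one_mul, inv_one, mul_one]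
      exact list_prod_mem (by
        simp only [List.mem_map]
        rintro _ ⟨g, hg, rfl⟩
        exact M.val_mem g (e2.2.2 g hg))
  · rw [e] at h
    change Option.rec (motive := fun _ => Bool) false _ (D.run k (p :: ps) (fX f) []) = true at h
    rcases e2 : D.run k (p :: ps) (fX f) [] with _ | r <;> rw [e2] at h
    · simp at h
    · simp only [band_eq, Bool.and_eq_true, beqN_iff, eqLN_iff] at h
      obtain ⟨w, hw, hv⟩ := M.run_rel ih _ _ _ r e2
      have hv' : M.wv w = M.wv (fW f) := by
        rw [h.2] at hv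
        simpa [rv, fW_length] using hv.symm
      show M.t (fX f) * M.wv (fW f) * (M.t (fY f))⁻¹ ∈ M.L
      rw [← hv', ← h.1]
      exact hw

theorem holds_of_all {n : ℕ} (h : ∀ k < n, D.factOK k (D.fact k) = true) :
    ∀ k < n, M.Holds (D.fact k) := by
  intro k
  induction k using Nat.strong_induction_on with
  | _ k ih => exact fun hk => M.factOK_holds (fun i hi => ih i hi (hi.trans hk)) (h k hk)

end Model

end Cfsg.Agent.Lib.Th19
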