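import Mathlib
import Cfsg.Agent.Lib.Th19.RelCheck0
import Cfsg.Agent.Lib.Th19.RelCheck1
import Cfsg.Agent.Lib.Th19.RelCheck2
import Cfsg.Agent.Lib.Th19.RelCheck3
import Cfsg.Agent.Lib.Th19.Nine
import Cfsg.Agent.Lib.Th19.HRels
import Cfsg.Agent.Lib.Th19.Sound
import Cfsg.Agent.Lib.Th19.LogCheck

/-!
The pairs (element, permutation of nine points) form a model of the log.
-/

set_option autoImplicit false

noncomputable section

namespace Cfsg.Agent.Lib.Th19

open Cfsg.Agent.Lib.ThK83 (nth Kbar rep)

theorem relK_all : ∀ r < 19, relOK (pk (nth [] rels r)) = true := by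
  intro r hr
  interval_cases r
  exacts [relK0, relK1, relK2, relK3, relK4, relK5, relK6, relK7, relK8, relK9, relK10, relK11, relK12, relK13, relK14, relK15, relK16, relK17, relK18]

theorem relK_kv {r : ℕ} (hr : r < 19) : kv (nth [] rels r) = 1 := kv_of_relOK (relK_all r hr)

theorem kv_sq_one {l : ℕ} (hl : l < 4) : kv [l, l] = 1 := by
  have h : nth [] rels l = [l, l] := by revert l; decide +kernel
  exact h ▸ relK_kv (by omega)

theorem rels_small : ∀ r < 19, ∀ g ∈ nth [] rels r, g < 8 := by decide +kernel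

theorem rels_nine : ∀ r < 29, ((nth [] rels r).map nineVal).prod = 1 := by decide +kernel

section

variable {G : Type} [Group G] (phi : Kbar →* G) (u : G)

/-- values of the ten letters in `G` -/
def gVal (g : ℕ) : G := if g = 8 then u else if g = 9 then u⁻¹ else phi (rep.f (trL g))

theorem gVal_iv : ∀ g, gVal phi u (iv g) = (gVal phi u g)⁻¹ := by
  have hinvol : ∀ {l : ℕ}, l < 4 → (phi (rep.f (trL l)))⁻¹ = phi (rep.f (trL l)) := by
    intro l hl
    have h := kv_sq_one hl
    simp only [kv, List.map_cons, List.map_nil, List.prod_cons, List.prod_nil, mul_one] at h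
    rw [← map_inv, inv_eq_of_mul_eq_one_right h]
  intro g
  rcases Nat.lt_or_ge g 10 with hg | hg
  · interval_cases g
    · exact (hinvol (l := 0) (by norm_num)).symm
    · exact (hinvol (l := 1) (by norm_num)).symm
    · exact (hinvol (l := 2) (by norm_num)).symm
    · exact (hinvol (l := 3) (by norm_num)).symm
    · show phi (rep.f 6) = (phi (rep.f 5))⁻¹
      rw [← map_inv, ← ThK83.rep_inv (by norm_num : 5 < 9)]; rfl
    · show phi (rep.f 5) = (phi (rep.f 6))⁻¹
      rw [← map_inv, ← ThK83.rep_inv (by norm_num : 6 < 9)]; rfl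
    · show phi (rep.f 8) = (phi (rep.f 7))⁻¹
      rw [← map_inv, ← ThK83.rep_inv (by norm_num : 7 < 9)]; rfl
    · show phi (rep.f 7) = (phi (rep.f 8))⁻¹
      rw [← map_inv, ← ThK83.rep_inv (by norm_num : 8 < 9)]; rfl
    · rfl
    · exact (inv_inv u).symm
  · rw [iv_of_le hg]
    have h : trL g = trL 0 := by
      rw [trL, ThK83.nth_eq, List.getD_eq_default _ _ (by simp; omega)]; rfl
    show phi (rep.f (trL 0)) = (gVal phi u g)⁻¹
    rw [gVal, if_neg (by omega), if_neg (by omega), h]
    exact (hinvol (by norm_num)).symm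

theorem gVal_small {g : ℕ} (hg : g < 8) : gVal phi u g = phi (rep.f (trL g)) := by
  rw [gVal, if_neg (by omega), if_neg (by omega)]

theorem gVal_prod : ∀ {w : List ℕ}, (∀ g ∈ w, g < 8) → (w.map (gVal phi u)).prod = phi (kv w)
  | [], _ => by simp [kv]
  | g :: w, h => by
    rw [List.map_cons, List.prod_cons, gVal_prod fun x hx => h x (List.mem_cons_of_mem _ hx),
      gVal_small phi u (h g List.mem_cons_self), ← map_mul]
    simp [kv]

variable {phi u}
variable (hrel : HRels (phi (rep.f 0)) (phi (rep.f 2)) (phi (rep.f 3)) (phi (rep.f 4))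
  (phi (rep.f 5)) (phi (rep.f 7)) u)
include hrel

theorem gVal_rel : ∀ r, ((nth [] rels r).map (gVal phi u)).prod = 1 := by
  intro r
  rcases Nat.lt_or_ge r 19 with h19 | h19
  · rw [gVal_prod phi u (rels_small r h19), relK_kv h19, map_one]
  rcases Nat.lt_or_ge r 29 with h29 | h29
  swap
  · have : nth [] rels r = [] := by
      rw [ThK83.nth_eq, List.getD_eq_default]
      exact le_trans (le_of_eq (by decide +kernel : rels.length = 29)) h29
    rw [this]; rfl
  have hi : ∀ l, l < 4 → (gVal phi u l)⁻¹ = gVal phi u l := by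
    intro l hl
    rw [← gVal_iv]
    exact congrArg _ ((by decide +kernel : ∀ l < 4, iv l = l) l hl)
  have ha := hi 0 (by norm_num)
  have hc := hi 1 (by norm_num)
  have hd := hi 2 (by norm_num)
  have he := hi 3 (by norm_num)
  have e0 : gVal phi u 0 = phi (rep.f 0) := rfl
  have e1 : gVal phi u 1 = phi (rep.f 2) := rfl
  have e2 : gVal phi u 2 = phi (rep.f 3) := rfl
  have e3 : gVal phi u 3 = phi (rep.f 4) := rfl
  have e4 : gVal phi u 4 = phi (rep.f 5) := rfl
  have e5 : gVal phi u 5 = (phi (rep.f 5))⁻¹ := gVal_iv phi u 4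
  have e6 : gVal phi u 6 = phi (rep.f 7) := rfl
  have e7 : gVal phi u 7 = (phi (rep.f 7))⁻¹ := gVal_iv phi u 6
  have e8 : gVal phi u 8 = u := rfl
  have e9 : gVal phi u 9 = u⁻¹ := rfl
  rw [e0] at ha
  rw [e1] at hc
  rw [e2] at hd
  rw [e3] at he
  interval_cases r
  · rw [show nth [] rels 19 = [8,8,1,0] from by decide +kernel]
    simp only [List.map_cons, List.map_nil, List.prod_cons, List.prod_nil, mul_one, e0, e1, e2, e3,
      e4, e5, e6, e7, e8, e9]
    have h := hrel.u_sq
    simp only [pow_succ, pow_zero, one_mul, mul_inv_rev, inv_inv, ha, hc, hd, he, mul_assoc] at h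
    exact h
  · rw [show nth [] rels 20 = [9,0,8,0] from by decide +kernel]
    simp only [List.map_cons, List.map_nil, List.prod_cons, List.prod_nil, mul_one, e0, e1, e2, e3,
      e4, e5, e6, e7, e8, e9]
    have h := hrel.u_a
    simp only [pow_succ, pow_zero, one_mul, mul_inv_rev, inv_inv, ha, hc, hd, he, mul_assoc] at h
    exact h
  · rw [show nth [] rels 21 = [9,1,8,1] from by decide +kernel]
    simp only [List.map_cons, List.map_nil, List.prod_cons, List.prod_nil, mul_one, e0, e1, e2, e3,
      e4, e5, e6, e7, e8, e9]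
    have h := hrel.u_c
    simp only [pow_succ, pow_zero, one_mul, mul_inv_rev, inv_inv, ha, hc, hd, he, mul_assoc] at h
    exact h
  · rw [show nth [] rels 22 = [9,3,8,3] from by decide +kernel]
    simp only [List.map_cons, List.map_nil, List.prod_cons, List.prod_nil, mul_one, e0, e1, e2, e3,
      e4, e5, e6, e7, e8, e9]
    have h := hrel.u_e
    simp only [pow_succ, pow_zero, one_mul, mul_inv_rev, inv_inv, ha, hc, hd, he, mul_assoc] at h
    exact h
  · rw [show nth [] rels 23 = [2,3,9,2,8,2,3,9,2,8] from by decide +kernel]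
    simp only [List.map_cons, List.map_nil, List.prod_cons, List.prod_nil, mul_one, e0, e1, e2, e3,
      e4, e5, e6, e7, e8, e9]
    have h := hrel.u_de
    simp only [pow_succ, pow_zero, one_mul, mul_inv_rev, inv_inv, ha, hc, hd, he, mul_assoc] at h
    exact h
  · rw [show nth [] rels 24 = [9,6,8,6] from by decide +kernel]
    simp only [List.map_cons, List.map_nil, List.prod_cons, List.prod_nil, mul_one, e0, e1, e2, e3,
      e4, e5, e6, e7, e8, e9]
    have h := hrel.u_t
    simp only [pow_succ, pow_zero, one_mul, mul_inv_rev, inv_inv, ha, hc, hd, he, mul_assoc] at h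
    exact h
  · rw [show nth [] rels 25 = [3,5,5,9,4,4,3,5,5,8,4,4] from by decide +kernel]
    simp only [List.map_cons, List.map_nil, List.prod_cons, List.prod_nil, mul_one, e0, e1, e2, e3,
      e4, e5, e6, e7, e8, e9]
    have h := hrel.six_e
    simp only [pow_succ, pow_zero, one_mul, mul_inv_rev, inv_inv, ha, hc, hd, he, mul_assoc] at h
    exact h
  · rw [show nth [] rels 26 = [0,1,5,9,5,9,5,9] from by decide +kernel]
    simp only [List.map_cons, List.map_nil, List.prod_cons, List.prod_nil, mul_one, e0, e1, e2, e3,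
      e4, e5, e6, e7, e8, e9]
    have h := hrel.six_us
    simp only [pow_succ, pow_zero, one_mul, mul_inv_rev, inv_inv, ha, hc, hd, he, mul_assoc] at h
    exact h
  · rw [show nth [] rels 27 = [0,1,5,9,4,8,5,9,4,8,5,9,4,8,5,9,4,8] from by decide +kernel]
    simp only [List.map_cons, List.map_nil, List.prod_cons, List.prod_nil, mul_one, e0, e1, e2, e3,
      e4, e5, e6, e7, e8, e9]
    have h := hrel.six_comm
    simp only [pow_succ, pow_zero, one_mul, mul_inv_rev, inv_inv, ha, hc, hd, he, mul_assoc] at h
    exact h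
  · rw [show nth [] rels 28 = [2,5,5,8,4,4,2,5,5,8,4,4,2,5,5,8,4,4,2,5,5,8,4,4,5,5,3,2,1,2,3,4,4,4,3,2,1,2,3,5,2,1,2,1,0] from by decide +kernel]
    simp only [List.map_cons, List.map_nil, List.prod_cons, List.prod_nil, mul_one, e0, e1, e2, e3,
      e4, e5, e6, e7, e8, e9]
    have h := hrel.six_d
    simp only [pow_succ, pow_zero, one_mul, mul_inv_rev, inv_inv, ha, hc, hd, he, mul_assoc] at h
    exact h

/-- the model on pairs -/
def model : Model theLog (G × Equiv.Perm (Fin 9)) where
  val g := (gVal phi u g, nineVal g)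
  val_iv g := Prod.ext (gVal_iv phi u g) (nineVal_iv g)
  L := phi.range.prod M9
  root := by
    show ((nth [] words 0).map _).prod = 1
    rw [show nth [] words 0 = [] from by decide +kernel]; rfl
  val_mem g hg := Subgroup.mem_prod.2
    ⟨⟨rep.f (trL g), (gVal_small phi u hg).symm⟩, nineVal_mem_M9 hg⟩
  rel r := by
    show ((nth [] rels r).map fun g => (gVal phi u g, nineVal g)).prod = 1
    refine Prod.ext ?_ ?_
    · have := map_list_prod (MonoidHom.fst G (Equiv.Perm (Fin 9)))
        ((nth [] rels r).map fun g => (gVal phi u g, nineVal g))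
      rw [List.map_map] at this
      exact this.trans (gVal_rel hrel r)
    · have := map_list_prod (MonoidHom.snd G (Equiv.Perm (Fin 9)))
        ((nth [] rels r).map fun g => (gVal phi u g, nineVal g))
      rw [List.map_map] at this
      refine this.trans ?_
      rcases Nat.lt_or_ge r 29 with h29 | h29
      · exact rels_nine r h29
      · rw [ThK83.nth_eq, List.getD_eq_default _ _
          (le_trans (le_of_eq (by decide +kernel : rels.length = 29)) h29)]
        rfl

end

end Cfsg.Agent.Lib.Th19
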