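import Mathlib
import Cfsg.Prelude.Def_Transfer
import Cfsg.Agent.Lib.LargeES.Heisenberg
import Cfsg.Agent.Lib.Th19.Model
import Cfsg.Agent.Lib.Th19.KCheck
import Cfsg.Agent.Lib.Th19.CommCheck

/-!
The involution centraliser of a Thompson-type group: a group generated by the images of
`a, c, d, e, s, t` and by an element `u` with the relators without `b` has the shape
`2^(1+8).A9`, provided the centraliser of `a` is not larger.
-/

set_option autoImplicit false

noncomputable section

namespace Cfsg.Agent.Lib.Th19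

open Cfsg
open Cfsg.Agent.Lib.ThK83 (nth rangeB rangeB_spec band_eq forallB_iff beqN_iff bltN_iff eqLN_iff
  Kbar rep)

namespace Model

variable {P : Type} [Group P] (M : Model theLog P)

theorem all_holds : ∀ k < 2681, M.Holds (theLog.fact k) := by
  refine M.holds_of_all fun k hk => ?_
  rcases Nat.lt_or_ge k 500 with h | h
  · exact rangeB_spec log_ok0 k (by omega) (by omega)
  rcases Nat.lt_or_ge k 1000 with h | h
  · exact rangeB_spec log_ok1 k (by omega) (by omega)
  rcases Nat.lt_or_ge k 1500 with h | h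
  · exact rangeB_spec log_ok2 k (by omega) (by omega)
  rcases Nat.lt_or_ge k 2000 with h | h
  · exact rangeB_spec log_ok3 k (by omega) (by omega)
  rcases Nat.lt_or_ge k 2500 with h | h
  · exact rangeB_spec log_ok4 k (by omega) (by omega)
  · exact rangeB_spec log_ok5 k (by omega) (by omega)

theorem edge {i g : ℕ} (hi : i < 120) (hg : g < 10) :
    tabAt i g < 120 ∧ M.Rel i [g] (tabAt i g) := by
  have h := rangeB_spec (rangeB_spec table_ok i (Nat.zero_le _) (by omega)) g (Nat.zero_le _)
    (by omega)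
  simp only [ThK83.hold_eq, band_eq, Bool.and_eq_true, beqN_iff, bltN_iff, eqLN_iff] at h
  obtain ⟨hk, hx, hy, hlt, hw⟩ := h
  have := M.all_holds _ hk
  unfold Holds at this
  rw [hx, hy, hw] at this
  exact ⟨hlt, this⟩

theorem walk_rel : ∀ (w : List ℕ) {i : ℕ}, i < 120 → (∀ g ∈ w, g < 10) →
    walk i w < 120 ∧ M.Rel i w (walk i w)
  | [], _, hi, _ => ⟨hi, Rel.refl M _⟩
  | g :: w, i, hi, hw => by
    obtain ⟨h1, h2⟩ := M.edge hi (hw g List.mem_cons_self)
    obtain ⟨h3, h4⟩ := walk_rel w h1 fun x hx => hw x (List.mem_cons_of_mem _ hx)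
    have e : walk i (g :: w) = walk (tabAt i g) w := by
      show ThK83.hold (tabAt i g) (fun j => walk j w) = _
      rw [ThK83.hold_eq]
    rw [e]
    exact ⟨h3, M.rel_trans h2 h4⟩

theorem wv_mem {S : Subgroup P} : ∀ {w : List ℕ}, (∀ g ∈ w, M.val g ∈ S) → M.wv w ∈ S
  | [], _ => one_mem _
  | g :: w, h => by
    rw [M.wv_cons]
    exact mul_mem (h g List.mem_cons_self) (wv_mem fun x hx => h x (List.mem_cons_of_mem _ hx))

/-- two representatives in the same coset of a subgroup `S` above `L` without `u` agree -/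
theorem sep {S : Subgroup P} (hS : M.L ≤ S) (hu : M.val 8 ∉ S) {i j : ℕ} (hi : i < 120) (hj : j < 120)
    (h : M.t i * (M.t j)⁻¹ ∈ S) : i = j := by
  by_contra hne
  have hs := rangeB_spec sep_ok j (Nat.zero_le _) (by omega)
  simp only [band_eq, Bool.and_eq_true, forallB_iff, bltN_iff] at hs
  obtain ⟨hw, hs⟩ := hs
  have hs' := rangeB_spec hs i (Nat.zero_le _) (by omega)
  have hij : Nat.beq i j = false := by
    rcases e : Nat.beq i j with _ | _
    · rfl
    · exact absurd (beqN_iff.1 e) hne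
  rw [hij] at hs'
  obtain ⟨hk120, hrel⟩ := M.walk_rel _ hi hw
  set k := walk i (winv (nth [] words j) []) with hk
  have hk0 : k ≠ 0 := by
    intro h0
    simp [h0] at hs'
  have hwv : M.wv (winv (nth [] words j) []) = (M.t j)⁻¹ := by
    rw [M.wv_winv, M.wv_nil, mul_one]; rfl
  have hrel' : M.t i * (M.t j)⁻¹ * (M.t k)⁻¹ ∈ S := by
    have := hS hrel
    rwa [hwv] at this
  have htk : M.t k ∈ S := by
    have := mul_mem (inv_mem hrel') h
    simpa [mul_assoc] using this
  have hway := rangeB_spec ways_ok k (by omega) (by omega)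
  simp only [band_eq, Bool.and_eq_true, forallB_iff, bltN_iff, beqN_iff] at hway
  have hexp : ∀ toks : List ℕ, M.wv (expand k toks) ∈ S := by
    intro toks
    induction toks with
    | nil => exact one_mem _
    | cons t ts ih =>
      show M.wv (Bool.rec (motive := fun _ => List Nat) (nth [] words k ++ expand k ts)
        (t :: expand k ts) (Nat.blt t 8)) ∈ S
      rcases e : Nat.blt t 8 with _ | _
      · show M.wv (nth [] words k ++ expand k ts) ∈ S
        rw [M.wv_append]; exact mul_mem htk ih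
      · show M.wv (t :: expand k ts) ∈ S
        rw [M.wv_cons]; exact mul_mem (hS (M.val_mem t (bltN_iff.1 e))) ih
  obtain ⟨-, hway'⟩ := M.walk_rel _ (by norm_num : 0 < 120) hway.1
  rw [hway.2] at hway'
  have h1 := hS hway'
  rw [M.t_zero, one_mul] at h1
  have htg : M.t (tabAt 0 8) ∈ S := by
    have := mul_mem (inv_mem h1) (hexp (nth [] ways k))
    simpa using this
  have h2 := hS (M.edge (by norm_num : 0 < 120) (by norm_num : 8 < 10)).2
  rw [M.t_zero, one_mul, M.wv_cons, M.wv_nil, mul_one] at h2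
  exact hu (by simpa using mul_mem h2 htg)

/-- everything generated by the letters maps the nodes to the nodes -/
theorem cover {p : P} (hp : p ∈ Subgroup.closure {x | ∃ g < 10, M.val g = x}) :
    ∀ i < 120, ∃ j < 120, M.t i * p * (M.t j)⁻¹ ∈ M.L := by
  refine Subgroup.closure_induction'' ?_ ?_ ?_ ?_ hp
  · rintro _ ⟨g, hg, rfl⟩ i hi
    obtain ⟨h1, h2⟩ := M.edge hi hg
    exact ⟨_, h1, by simpa [Rel, wv] using h2⟩
  · rintro _ ⟨g, hg, rfl⟩ i hi
    have hg' : iv g < 10 := (by decide +kernel : ∀ g < 10, iv g < 10) g hg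
    obtain ⟨h1, h2⟩ := M.edge hi hg'
    exact ⟨_, h1, by simpa [Rel, wv, M.val_iv] using h2⟩
  · intro i hi
    exact ⟨i, hi, by simp⟩
  · intro x y _ _ hx hy i hi
    obtain ⟨j, hj, h1⟩ := hx i hi
    obtain ⟨k, hk, h2⟩ := hy j hj
    exact ⟨k, hk, by simpa [mul_assoc] using mul_mem h1 h2⟩

end Model

/-! ### the words of the kernel -/

theorem qWords_nine : ∀ k < 9, ((nth [] qWords k).map nineVal).prod = 1 := by decide +kernel

theorem qWords_small : ∀ k < 9, ∀ g ∈ nth [] qWords k, g < 8 := by decide +kernel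

theorem qWord_nine : ∀ e < 512, ((qWord e).map nineVal).prod = 1 := by decide +kernel

theorem qWord_small : ∀ e < 512, ∀ g ∈ qWord e, g < 8 := by decide +kernel

theorem qWit_lt : ∀ e < 512, nth 0 qWit e < 9 := by decide +kernel

theorem qWord_zero : qWord 0 = [] := by decide +kernel

theorem qWord_one : qWord 1 = [0] := by decide +kernel

theorem key_qWord {e : ℕ} (he : e < 512) : key (qWord e) = nth [] qKeys e :=
  eqLN_iff.1 (rangeB_spec keys_ok e (Nat.zero_le _) (by omega))

theorem noDupB_nodup : ∀ {l : List (List ℕ)}, noDupB l = true → l.Nodup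
  | [], _ => List.nodup_nil
  | x :: xs, h => by
    change ThK83.band (ThK83.forallB (fun y => notB (ThK83.eqLN x y)) xs) (noDupB xs) = true at h
    rw [band_eq, Bool.and_eq_true, forallB_iff] at h
    refine List.nodup_cons.2 ⟨fun hx => ?_, noDupB_nodup h.2⟩
    have := notB_iff.1 (h.1 x hx)
    rw [eqLN_iff.2 rfl] at this
    simp at this

theorem qKeys_inj {e e' : ℕ} (he : e < 512) (he' : e' < 512)
    (h : nth [] qKeys e = nth [] qKeys e') : e = e' := by
  have hl : qKeys.length = 512 := by decide +kernel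
  rw [ThK83.nth_eq, ThK83.nth_eq, List.getD_eq_getElem _ _ (hl ▸ he),
    List.getD_eq_getElem _ _ (hl ▸ he')] at h
  exact (noDupB_nodup keys_nodup).getElem_inj_iff.1 h

/-- the element number `e` -/
def qK (e : ℕ) : Kbar := kv (qWord e)

theorem imgs_qK {e : ℕ} (he : e < 512) : rep.imgs (qK e) qPts = nth [] qKeys e := by
  rw [qK, ← key_eq, key_qWord he]

theorem qK_inj {e e' : ℕ} (he : e < 512) (he' : e' < 512) (h : qK e = qK e') : e = e' :=
  qKeys_inj he he' (by rw [← imgs_qK he, ← imgs_qK he', h])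

theorem kv_append (v w : List ℕ) : kv (v ++ w) = kv v * kv w := by simp [kv]

/-- The centraliser of `a` is `2^(1+8).A9`, is generated by the seven elements and has order
92897280. -/
theorem structure_full {G : Type} [Group G] [Finite G] (phi : Kbar →* G)
    (hinj : Function.Injective phi) (u : G) (hu : u ∉ phi.range)
    (hrel : HRels (phi (rep.f 0)) (phi (rep.f 2)) (phi (rep.f 3)) (phi (rep.f 4)) (phi (rep.f 5))
      (phi (rep.f 7)) u)
    (hC : Nat.card (Subgroup.centralizer ({phi (rep.f 0)} : Set G)) ≤ 92897280) :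
    Subgroup.centralizer ({phi (rep.f 0)} : Set G) = Subgroup.closure {phi (rep.f 0), phi (rep.f 2),
      phi (rep.f 3), phi (rep.f 4), phi (rep.f 5), phi (rep.f 7), u} ∧
    Nat.card (Subgroup.centralizer ({phi (rep.f 0)} : Set G)) = 92897280 ∧
    orderOf (phi (rep.f 0)) = 2 ∧
      ∃ (Q : Subgroup (Subgroup.centralizer ({phi (rep.f 0)} : Set G))) (_ : Q.Normal),
        Nat.card Q = 2 ^ 9 ∧ IsExtraspecial 2 Q ∧
          Nonempty ((Subgroup.centralizer ({phi (rep.f 0)} : Set G)) ⧸ Q ≃* alternatingGroup (Fin 9)) := by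
  classical
  let M := model hrel
  set C := Subgroup.centralizer ({phi (rep.f 0)} : Set G) with hCdef
  let D : Subgroup (G × Equiv.Perm (Fin 9)) := Subgroup.closure {x | ∃ g < 10, M.val g = x}
  have hMD : ∀ g, g < 10 → M.val g ∈ D := fun g hg => Subgroup.subset_closure ⟨g, hg, rfl⟩
  have hwvD : ∀ w : List ℕ, (∀ g ∈ w, g < 8) → (phi (kv w), (w.map nineVal).prod) ∈ D := by
    intro w hw
    have := M.wv_mem (S := D) (w := w) fun g hg => hMD g (by have := hw g hg; omega)
    convert this using 1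
    refine Prod.ext ?_ ?_
    · have h := map_list_prod (MonoidHom.fst G (Equiv.Perm (Fin 9))) (w.map M.val)
      rw [List.map_map] at h
      exact ((gVal_prod phi u hw).symm.trans h.symm)
    · have h := map_list_prod (MonoidHom.snd G (Equiv.Perm (Fin 9))) (w.map M.val)
      rw [List.map_map] at h
      exact h.symm
  -- the second projection
  have hsgn : D ≤ (alternatingGroup (Fin 9)).comap (MonoidHom.snd G (Equiv.Perm (Fin 9))) := by
    rw [Subgroup.closure_le]
    rintro _ ⟨g, -, rfl⟩
    exact Equiv.Perm.mem_alternatingGroup.2 (sign_nineVal g)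
  let f : D →* alternatingGroup (Fin 9) :=
    ((MonoidHom.snd G (Equiv.Perm (Fin 9))).comp D.subtype).codRestrict _ fun x => hsgn x.2
  have hgen : alternatingGroup (Fin 9) ≤ D.map (MonoidHom.snd G (Equiv.Perm (Fin 9))) := by
    refine nineVal_generate _ fun g => ?_
    rcases Nat.lt_or_ge g 10 with hg | hg
    · exact ⟨M.val g, hMD g hg, rfl⟩
    · rw [nineVal_of_le hg]
      exact ⟨M.val 0, hMD 0 (by norm_num), rfl⟩
  have hfsurj : Function.Surjective f := by
    rintro ⟨σ, hσ⟩
    obtain ⟨p, hp, rfl⟩ := hgen hσ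
    exact ⟨⟨p, hp⟩, rfl⟩
  -- the first projection is injective
  have hone : ∀ σ, ((1 : G), σ) ∈ D → σ ∈ M9 := by
    intro σ h
    obtain ⟨j, hj, hmem⟩ := M.cover h 0 (by norm_num)
    rw [M.t_zero, one_mul] at hmem
    have hj0 : 0 = j := by
      refine M.sep (S := phi.range.prod ⊤) (Subgroup.prod_mono le_rfl le_top) ?_ (by norm_num) hj ?_
      · intro hmem8
        exact hu (Subgroup.mem_prod.1 hmem8).1
      · rw [M.t_zero, one_mul]
        refine Subgroup.mem_prod.2 ⟨?_, trivial⟩
        have h1 := (Subgroup.mem_prod.1 hmem).1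
        simpa using h1
    subst hj0
    rw [M.t_zero, inv_one, mul_one] at hmem
    exact (Subgroup.mem_prod.1 hmem).2
  let N : Subgroup (alternatingGroup (Fin 9)) :=
    (D.comap (MonoidHom.inr G (Equiv.Perm (Fin 9)))).subgroupOf (alternatingGroup (Fin 9))
  have hNn : N.Normal := ⟨fun n hn x => by
    obtain ⟨p, hp, hpx⟩ := hgen x.2
    have := mul_mem (mul_mem hp (Subgroup.mem_comap.1 (Subgroup.mem_subgroupOf.1 hn))) (inv_mem hp)
    refine Subgroup.mem_subgroupOf.2 (Subgroup.mem_comap.2 ?_)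
    have e : p * MonoidHom.inr G (Equiv.Perm (Fin 9)) (n : Equiv.Perm (Fin 9)) * p⁻¹ =
        MonoidHom.inr G (Equiv.Perm (Fin 9)) ((x * n * x⁻¹ : alternatingGroup (Fin 9)) :
          Equiv.Perm (Fin 9)) := by
      refine Prod.ext (by simp) ?_
      simp only [MonoidHom.coe_snd] at hpx
      simp [hpx]
    rwa [e] at this⟩
  have hNbot : N = ⊥ := by
    have : IsSimpleGroup (alternatingGroup (Fin 9)) := alternatingGroup.isSimpleGroup (by simp)
    refine hNn.eq_bot_or_eq_top.resolve_right fun htop => u_notMem_M9 (hone _ ?_)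
    exact (show (⟨nineVal 8, Equiv.Perm.mem_alternatingGroup.2 (sign_nineVal 8)⟩ :
      alternatingGroup (Fin 9)) ∈ N from htop ▸ Subgroup.mem_top _)
  have hfst : ∀ x ∈ D, x.1 = 1 → x = 1 := by
    rintro ⟨x, σ⟩ hx rfl
    have hm : (⟨σ, hsgn hx⟩ : alternatingGroup (Fin 9)) ∈ N := hx
    rw [hNbot, Subgroup.mem_bot] at hm
    exact Prod.ext rfl (congrArg Subtype.val hm)
  -- the elements of `D` centralise `a`
  have ha2 : kv [0, 0] = 1 := kv_sq_one (by norm_num)
  have hcomm : D ≤ C.comap (MonoidHom.fst G (Equiv.Perm (Fin 9))) := by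
    rw [Subgroup.closure_le]
    rintro _ ⟨g, hg, rfl⟩
    refine Subgroup.mem_centralizer_singleton_iff.2 ?_
    show gVal phi u g * phi (rep.f 0) = phi (rep.f 0) * gVal phi u g
    have hua : Commute u (phi (rep.f 0)) := by
      have h := hrel.u_a
      have h' : (phi (rep.f 0) * u)⁻¹ * (u * phi (rep.f 0)) = 1 := by
        rw [mul_inv_rev, ← h]; group
      exact (inv_mul_eq_one.1 h').symm
    have hsame : ∀ i g', g' < 8 → i = iv g' → kv [i, 0, g', 0] = 1 →
        Commute (gVal phi u g') (phi (rep.f 0)) := by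
      intro i g' hg' hi h
      have hi8 : i < 8 := hi ▸ (by decide +kernel : ∀ g < 8, iv g < 8) g' hg'
      have h2 := congrArg phi h
      rw [map_one, ← gVal_prod phi u (w := [i, 0, g', 0]) (by
        simp only [List.mem_cons, List.not_mem_nil, or_false]
        rintro x (rfl | rfl | rfl | rfl) <;> omega), hi] at h2
      simp only [List.map_cons, List.map_nil, List.prod_cons, List.prod_nil, mul_one, gVal_iv] at h2
      have e0 : gVal phi u 0 = phi (rep.f 0) := rfl
      have hinv : (phi (rep.f 0))⁻¹ = phi (rep.f 0) := (gVal_iv phi u 0).symm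
      rw [e0] at h2
      have h' : (phi (rep.f 0) * gVal phi u g')⁻¹ * (gVal phi u g' * phi (rep.f 0)) = 1 := by
        rw [mul_inv_rev, hinv, ← h2]; group
      exact (inv_mul_eq_one.1 h').symm
    have c1 := hsame 1 1 (by norm_num) rfl (kv_of_relOK commA1)
    have c2 := hsame 2 2 (by norm_num) rfl (kv_of_relOK commA2)
    have c3 := hsame 3 3 (by norm_num) rfl (kv_of_relOK commA3)
    have c4 := hsame 5 4 (by norm_num) rfl (kv_of_relOK commA4)
    have c6 := hsame 7 6 (by norm_num) rfl (kv_of_relOK commA6)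
    interval_cases g
    · rfl
    · exact c1
    · exact c2
    · exact c3
    · exact c4
    · rw [show gVal phi u 5 = (gVal phi u 4)⁻¹ from gVal_iv phi u 4]; exact c4.inv_left
    · exact c6
    · rw [show gVal phi u 7 = (gVal phi u 6)⁻¹ from gVal_iv phi u 6]; exact c6.inv_left
    · exact hua
    · exact hua.inv_left
  have hkey : ∀ e < 512, (phi (qK e), (1 : Equiv.Perm (Fin 9))) ∈ D := by
    intro e he
    have := hwvD _ (qWord_small e he)
    rwa [qWord_nine e he] at this
  let eD : D →* C :=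
    ((MonoidHom.fst G (Equiv.Perm (Fin 9))).comp D.subtype).codRestrict C fun x => hcomm x.2
  have heinj : Function.Injective eD := by
    rw [← MonoidHom.ker_eq_bot_iff, Subgroup.eq_bot_iff_forall]
    intro x hx
    exact Subtype.ext (hfst x x.2 (congrArg Subtype.val hx))
  -- orders
  let qD : Fin 512 → f.ker := fun e => ⟨⟨_, hkey e e.2⟩, by ext1; rfl⟩
  have hqinj : Function.Injective qD := fun a b h => Fin.ext (qK_inj a.2 b.2
    (hinj (congrArg (fun x : f.ker => ((x : D) : G × Equiv.Perm (Fin 9)).1) h)))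
  have hA : Nat.card (alternatingGroup (Fin 9)) = 181440 := by
    rw [nat_card_alternatingGroup, Nat.card_fin]; decide
  have hDcard : Nat.card D = 181440 * Nat.card f.ker := by
    rw [f.ker.card_eq_card_quotient_mul_card_subgroup,
      Nat.card_congr (QuotientGroup.quotientKerEquivOfSurjective f hfsurj).toEquiv, hA]
  have hge : 512 ≤ Nat.card f.ker := by
    simpa using Nat.card_le_card_of_injective qD hqinj
  have hDC : Nat.card D ≤ Nat.card C := Nat.card_le_card_of_injective eD heinj
  have hker : Nat.card f.ker = 512 := by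
    have := hDC.trans hC
    omega
  have hebij : Function.Bijective eD :=
    (Nat.bijective_iff_injective_and_card eD).2 ⟨heinj, le_antisymm hDC (by
      refine hC.trans ?_
      rw [hDcard, hker])⟩
  have hCcard : Nat.card C = 92897280 := by
    rw [← Nat.card_eq_of_bijective eD hebij, hDcard, hker]
  have hclosure : C = Subgroup.closure {phi (rep.f 0), phi (rep.f 2), phi (rep.f 3), phi (rep.f 4),
      phi (rep.f 5), phi (rep.f 7), u} := by
    have hsub : D ≤ (Subgroup.closure {phi (rep.f 0), phi (rep.f 2), phi (rep.f 3), phi (rep.f 4),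
        phi (rep.f 5), phi (rep.f 7), u}).comap (MonoidHom.fst G (Equiv.Perm (Fin 9))) := by
      rw [Subgroup.closure_le]
      rintro _ ⟨g, hg, rfl⟩
      show gVal phi u g ∈ Subgroup.closure {phi (rep.f 0), phi (rep.f 2), phi (rep.f 3), phi (rep.f 4),
        phi (rep.f 5), phi (rep.f 7), u}
      interval_cases g
      · exact Subgroup.subset_closure (Or.inl rfl)
      · exact Subgroup.subset_closure (Or.inr (Or.inl rfl))
      · exact Subgroup.subset_closure (Or.inr (Or.inr (Or.inl rfl)))
      · exact Subgroup.subset_closure (Or.inr (Or.inr (Or.inr (Or.inl rfl))))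
      · exact Subgroup.subset_closure (Or.inr (Or.inr (Or.inr (Or.inr (Or.inl rfl)))))
      · rw [show gVal phi u 5 = (gVal phi u 4)⁻¹ from gVal_iv phi u 4]
        exact inv_mem (Subgroup.subset_closure (Or.inr (Or.inr (Or.inr (Or.inr (Or.inl rfl))))))
      · exact Subgroup.subset_closure (Or.inr (Or.inr (Or.inr (Or.inr (Or.inr (Or.inl rfl))))))
      · rw [show gVal phi u 7 = (gVal phi u 6)⁻¹ from gVal_iv phi u 6]
        exact inv_mem
          (Subgroup.subset_closure (Or.inr (Or.inr (Or.inr (Or.inr (Or.inr (Or.inl rfl)))))))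
      · exact Subgroup.subset_closure (Or.inr (Or.inr (Or.inr (Or.inr (Or.inr (Or.inr rfl))))))
      · exact inv_mem
          (Subgroup.subset_closure (Or.inr (Or.inr (Or.inr (Or.inr (Or.inr (Or.inr rfl)))))))
    refine le_antisymm (fun x hx => ?_) ?_
    · obtain ⟨y, hy⟩ := hebij.2 ⟨x, hx⟩
      have e : (y : G × Equiv.Perm (Fin 9)).1 = x := congrArg Subtype.val hy
      exact e ▸ hsub y.2
    · rw [Subgroup.closure_le]
      intro x hx
      have hg : ∃ g < 10, gVal phi u g = x := by
        rcases hx with rfl | rfl | rfl | rfl | rfl | rfl | rfl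
        exacts [⟨0, by norm_num, rfl⟩, ⟨1, by norm_num, rfl⟩, ⟨2, by norm_num, rfl⟩,
          ⟨3, by norm_num, rfl⟩, ⟨4, by norm_num, rfl⟩, ⟨6, by norm_num, rfl⟩,
          ⟨8, by norm_num, rfl⟩]
      obtain ⟨g, hg, rfl⟩ := hg
      exact hcomm (hMD g hg)
  let ε : D ≃* C := MulEquiv.ofBijective eD hebij
  let F : C →* alternatingGroup (Fin 9) := f.comp ε.symm.toMonoidHom
  have hFsurj : Function.Surjective F := hfsurj.comp ε.symm.surjective
  have hqsurj : Function.Surjective qD :=
    ((Nat.bijective_iff_injective_and_card qD).2 ⟨hqinj, by rw [Nat.card_fin]; exact hker.symm⟩).2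
  -- the elements of the kernel
  have hQel : ∀ x : F.ker, ∃ e < 512, ((x : C) : G) = phi (qK e) := by
    intro x
    obtain ⟨e, he⟩ := hqsurj ⟨ε.symm (x : C), x.2⟩
    refine ⟨e, e.2, ?_⟩
    have h1 : eD (ε.symm (x : C)) = (x : C) := ε.apply_symm_apply _
    rw [← h1]
    exact (congrArg (fun y : f.ker => ((y : D) : G × Equiv.Perm (Fin 9)).1) he).symm
  have hQmem : ∀ w : List ℕ, (∀ g ∈ w, g < 8) → (w.map nineVal).prod = 1 →
      ∃ x : F.ker, ((x : C) : G) = phi (kv w) := by
    intro w hw h1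
    refine ⟨⟨eD ⟨_, hwvD w hw⟩, ?_⟩, rfl⟩
    show f (ε.symm (ε ⟨_, hwvD w hw⟩)) = 1
    rw [ε.symm_apply_apply]
    exact Subtype.ext h1
  have hQcard : Nat.card F.ker = 2 ^ 9 := by
    refine (Nat.card_congr ?_).trans (hker.trans (by norm_num))
    exact { toFun := fun x => ⟨ε.symm x, x.2⟩
            invFun := fun y => ⟨ε y, by show f (ε.symm (ε y)) = 1; rw [ε.symm_apply_apply]; exact y.2⟩
            left_inv := fun x => Subtype.ext (ε.apply_symm_apply _)
            right_inv := fun y => Subtype.ext (ε.symm_apply_apply _) }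
  -- the involution
  have hq0 : qK 0 = 1 := by simp [qK, qWord_zero, kv]
  have hq1 : qK 1 = rep.f 0 := by
    simp [qK, qWord_one, kv, show trL 0 = 0 from rfl]
  have hane : phi (rep.f 0) ≠ 1 := fun h =>
    absurd (qK_inj (by norm_num : 1 < 512) (by norm_num : 0 < 512)
      (hinj (by rw [hq1, hq0, h, map_one]))) (by norm_num)
  have horder : orderOf (phi (rep.f 0)) = 2 := by
    refine orderOf_eq_prime ?_ hane
    rw [pow_two, ← map_mul]
    have := ha2
    simp [kv, show trL 0 = 0 from rfl] at this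
    rw [this, map_one]
  obtain ⟨z, hz⟩ := hQmem (qWord 1) (qWord_small 1 (by norm_num)) (qWord_nine 1 (by norm_num))
  have hzG : ((z : C) : G) = phi (rep.f 0) := by rw [hz, show kv (qWord 1) = qK 1 from rfl, hq1]
  have hzc : z ∈ Subgroup.center F.ker := by
    refine Subgroup.mem_center_iff.2 fun x => Subtype.ext (Subtype.ext ?_)
    show ((x : C) : G) * ((z : C) : G) = ((z : C) : G) * ((x : C) : G)
    rw [hzG]
    exact Subgroup.mem_centralizer_singleton_iff.1 (x : C).2
  have hsq : ∀ x : F.ker, x ^ 2 = 1 ∨ x ^ 2 = z := by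
    intro x
    obtain ⟨e, he, hx⟩ := hQel x
    obtain ⟨e', he', hx'⟩ := hQel (x ^ 2)
    have hK : kv (qWord e ++ qWord e) = qK e' := hinj (by
      rw [kv_append, map_mul, ← hx', SubgroupClass.coe_pow, SubgroupClass.coe_pow, pow_two, hx]; rfl)
    have hs := rangeB_spec squares_ok e (Nat.zero_le _) (by omega)
    rw [key_eq, hK, imgs_qK he'] at hs
    rcases h : ThK83.eqLN (nth [] qKeys e') (nth [] qKeys 0) with _ | _
    · rw [h] at hs
      have := qKeys_inj he' (by norm_num) (eqLN_iff.1 hs)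
      subst this
      right
      exact Subtype.ext (Subtype.ext (by rw [hx', hzG, hq1]))
    · have := qKeys_inj he' (by norm_num) (eqLN_iff.1 h)
      subst this
      left
      exact Subtype.ext (Subtype.ext (by rw [hx', hq0, map_one]; rfl))
  have hsqc : ∀ x : F.ker, x ^ 2 ∈ Subgroup.center F.ker := fun x => by
    rcases hsq x with h | h <;> rw [h]
    · exact one_mem _
    · exact hzc
  have hnc : ∀ x : F.ker, ∀ e, 2 ≤ e → e < 512 → ((x : C) : G) = phi (qK e) →
      ∃ y : F.ker, x * y ≠ y * x := by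
    intro x e he2 he hx
    obtain ⟨y, hy⟩ := hQmem (witWord e) (qWords_small _ (qWit_lt e he))
      (qWords_nine _ (qWit_lt e he))
    refine ⟨y, fun h => ?_⟩
    have h' : ((x : C) : G) * ((y : C) : G) = ((y : C) : G) * ((x : C) : G) :=
      congrArg (fun q : F.ker => ((q : C) : G)) h
    rw [hx, hy, qK, ← map_mul, ← map_mul, ← kv_append, ← kv_append] at h'
    have hw := rangeB_spec wits_ok e he2 (by omega)
    rw [key_eq, key_eq, hinj h'] at hw
    have := notB_iff.1 hw
    rw [eqLN_iff.2 rfl] at this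
    simp at this
  refine ⟨hclosure, hCcard, horder, F.ker, inferInstance, hQcard, ?_,
    ⟨QuotientGroup.quotientKerEquivOfSurjective F hFsurj⟩⟩
  obtain ⟨x₂, hx₂⟩ := hQmem (qWord 2) (qWord_small 2 (by norm_num)) (qWord_nine 2 (by norm_num))
  obtain ⟨y₂, hy₂⟩ := hnc x₂ 2 le_rfl (by norm_num) hx₂
  refine LargeES.Heisenberg.isExtraspecial_of_props (IsPGroup.of_card hQcard) (z := z) ?_ hzc ?_
    hsqc ?_ hy₂
  · intro h
    apply hane
    rw [← hzG, h]; rfl
  · intro x hx
    obtain ⟨e, he, hxe⟩ := hQel x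
    rcases Nat.lt_or_ge e 2 with h2 | h2
    · interval_cases e
      · left; exact Subtype.ext (Subtype.ext (by rw [hxe, hq0, map_one]; rfl))
      · right; exact Subtype.ext (Subtype.ext (by rw [hxe, hzG, hq1]))
    · obtain ⟨y, hy⟩ := hnc x e h2 he hxe
      exact absurd (Subgroup.mem_center_iff.1 hx y).symm hy
  · intro x y
    have e : x * y * x⁻¹ * y⁻¹ = (x * y) ^ 2 * ((y ^ 2)⁻¹ * (x ^ 2)⁻¹) := by
      have hy := Subgroup.mem_center_iff.1 (inv_mem (hsqc x)) y
      calc x * y * x⁻¹ * y⁻¹ = x * y * x * ((x ^ 2)⁻¹ * y) * (y ^ 2)⁻¹ := by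
            simp only [pow_two]; group
        _ = x * y * x * (y * (x ^ 2)⁻¹) * (y ^ 2)⁻¹ := by rw [hy]
        _ = (x * y) ^ 2 * ((x ^ 2)⁻¹ * (y ^ 2)⁻¹) := by simp only [pow_two, mul_assoc]
        _ = (x * y) ^ 2 * ((y ^ 2)⁻¹ * (x ^ 2)⁻¹) := by
            rw [← Subgroup.mem_center_iff.1 (inv_mem (hsqc x)) ((y ^ 2)⁻¹)]
    rw [e]
    exact mul_mem (hsqc _) (mul_mem (inv_mem (hsqc _)) (inv_mem (hsqc _)))

/-- **B7a.** The centraliser of `a` is `2^(1+8).A9`. -/
theorem exists_structure {G : Type} [Group G] [Finite G] (phi : Kbar →* G)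
    (hinj : Function.Injective phi) (u : G) (hu : u ∉ phi.range)
    (hrel : HRels (phi (rep.f 0)) (phi (rep.f 2)) (phi (rep.f 3)) (phi (rep.f 4)) (phi (rep.f 5))
      (phi (rep.f 7)) u)
    (hC : Nat.card (Subgroup.centralizer ({phi (rep.f 0)} : Set G)) ≤ 92897280) :
    orderOf (phi (rep.f 0)) = 2 ∧
      ∃ (Q : Subgroup (Subgroup.centralizer ({phi (rep.f 0)} : Set G))) (_ : Q.Normal),
        Nat.card Q = 2 ^ 9 ∧ IsExtraspecial 2 Q ∧
          Nonempty ((Subgroup.centralizer ({phi (rep.f 0)} : Set G)) ⧸ Q ≃* alternatingGroup (Fin 9)) :=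
  (structure_full phi hinj u hu hrel hC).2.2

/-- The centraliser of `a` is generated by the seven elements. -/
theorem centralizer_eq_closure {G : Type} [Group G] [Finite G] (phi : Kbar →* G)
    (hinj : Function.Injective phi) (u : G) (hu : u ∉ phi.range)
    (hrel : HRels (phi (rep.f 0)) (phi (rep.f 2)) (phi (rep.f 3)) (phi (rep.f 4)) (phi (rep.f 5))
      (phi (rep.f 7)) u)
    (hC : Nat.card (Subgroup.centralizer ({phi (rep.f 0)} : Set G)) ≤ 92897280) :
    Subgroup.centralizer ({phi (rep.f 0)} : Set G) = Subgroup.closure {phi (rep.f 0), phi (rep.f 2),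
      phi (rep.f 3), phi (rep.f 4), phi (rep.f 5), phi (rep.f 7), u} :=
  (structure_full phi hinj u hu hrel hC).1

end Cfsg.Agent.Lib.Th19
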