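import Mathlib
import Cfsg.Agent.Lib.ThK83.Perm
import Cfsg.Agent.Lib.Th19.Data
import Cfsg.Agent.Lib.Th19.KData

/-!
Words in the first eight letters evaluated in the group on 17199 points.
-/

set_option autoImplicit false

noncomputable section

namespace Cfsg.Agent.Lib.Th19

open Cfsg.Agent.Lib.ThK83 (hold band forallB rangeB nth eqLN hold_eq band_eq forallB_iff rangeB_spec
  beqN_iff bltN_iff eqLN_iff Kbar tabs rep permRep perm_ext decode decodeC clipL)

/-- the letter of the nine corresponding to one of the first eight -/
noncomputable def trL (g : Nat) : Nat := nth 0 [0, 2, 3, 4, 5, 6, 7, 8] g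

/-- a word for the evaluator, one letter in each number -/
noncomputable def pk (w : List Nat) : List Nat :=
  List.rec (motive := fun _ => List Nat) [] (fun g _ ih => Nat.succ (trL g) :: ih) w

theorem trL_lt (g : ℕ) : trL g < 9 := by
  rcases Nat.lt_or_ge g 8 with h | h
  · revert g; decide +kernel
  · rw [trL, ThK83.nth_eq, List.getD_eq_default _ _ (by simpa using h)]; norm_num

theorem decode_letter : ∀ l < 9, decode [l + 1] = [l] := by decide +kernel

/-- the value of a word in `Kbar` -/
noncomputable def kv (w : List ℕ) : Kbar := (w.map fun g => rep.f (trL g)).prod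

theorem ev_pk : ∀ w : List ℕ, rep.ev (pk w) = kv w
  | [] => rfl
  | g :: w => by
    show rep.ev ([trL g + 1] ++ pk w) = _
    rw [rep.ev_append, ev_pk w]
    simp [ThK83.Rep.ev, decode_letter _ (trL_lt g), kv]

theorem go_pk (w : List ℕ) {p : ℕ} (hp : p < 17199) :
    tabs.go (pk w) p = rep.pt (kv w) p := by
  rw [rep.go_eq _ _ hp, ev_pk]

/-- a word fixes all points of one of nine chunks -/
noncomputable def relChunk (u : List Nat) (b : Nat) : Bool :=
  rangeB (fun p => Nat.beq (tabs.go u p) p) 1911 (Nat.mul b 1911)

/-- a word fixes all points -/
noncomputable def relOK (u : List Nat) : Bool := rangeB (relChunk u) 9 0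

theorem kv_of_relOK {w : List ℕ} (h : relOK (pk w) = true) : kv w = 1 := by
  refine Subtype.ext (perm_ext fun p hp => ?_)
  have h1 := rangeB_spec h (p / 1911) (Nat.zero_le _) (by omega)
  have h2 := rangeB_spec h1 p
    (by show p / 1911 * 1911 ≤ p; omega) (by show p < p / 1911 * 1911 + 1911; omega)
  rw [beqN_iff, go_pk w hp] at h2
  show rep.pt (kv w) p = permRep.pt 1 p
  rw [h2, permRep.pt_one]

/-- the elements chosen by the bits of a number -/
noncomputable def sel (qs : List (List Nat)) : Nat → List Nat :=
  List.rec (motive := fun _ => Nat → List Nat) (fun _ => [])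
    (fun w _ ih e => hold (Nat.div e 2) fun h =>
      Bool.rec (motive := fun _ => List Nat) (ih h) (w ++ ih h) (Nat.beq (Nat.mod e 2) 1)) qs

/-- the word of the kernel element number `e` -/
noncomputable def qWord (e : Nat) : List Nat := sel qWords e

/-- images of the chosen points -/
noncomputable def key (w : List Nat) : List Nat := tabs.mov (pk w) qPts

theorem qPts_lt : ∀ p ∈ qPts, p < 17199 := by decide +kernel

theorem key_eq (w : List ℕ) : key w = rep.imgs (kv w) qPts := by
  rw [key, rep.mov_base qPts_lt, ev_pk]

/-- negation -/
noncomputable def notB (b : Bool) : Bool := Bool.rec (motive := fun _ => Bool) true false b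

theorem notB_iff {b : Bool} : notB b = true ↔ b = false := by cases b <;> simp [notB]

/-- the listed images are right -/
noncomputable def keysOK : Bool :=
  rangeB (fun e => eqLN (key (qWord e)) (nth [] qKeys e)) 512 0

/-- the members of a list are pairwise different -/
noncomputable def noDupB (l : List (List Nat)) : Bool :=
  List.rec (motive := fun _ => Bool) true
    (fun x xs ih => band (forallB (fun y => notB (eqLN x y)) xs) ih) l

/-- the square is `1` or the first generator -/
noncomputable def squaresOK : Bool :=
  rangeB (fun e =>
    Bool.rec (motive := fun _ => Bool)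
      (eqLN (key (qWord e ++ qWord e)) (nth [] qKeys 1)) true
      (eqLN (key (qWord e ++ qWord e)) (nth [] qKeys 0))) 512 0

/-- a word not commuting with an element -/
noncomputable def witWord (e : Nat) : List Nat := nth [] qWords (nth 0 qWit e)

/-- the elements outside the centre have witnesses -/
noncomputable def witsOK : Bool :=
  rangeB (fun e => notB (eqLN (key (qWord e ++ witWord e)) (key (witWord e ++ qWord e)))) 510 2

end Cfsg.Agent.Lib.Th19
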